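import Mathlib.AlgebraicGeometry.Morphisms.RingHomProperties
import Mathlib.AlgebraicGeometry.Morphisms.QuasiCompact
import Mathlib.RingTheory.RingHom.EssFiniteType
import Mathlib.RingTheory.RingHom.Locally

/-!
Morphisms locally essentially of finite type.
-/

set_option autoImplicit false
universe u

open CategoryTheory AlgebraicGeometry RingHom

namespace Groth.Agent.CAlg9.EFT

/-- locally essentially of finite type -/
def LE : MorphismProperty Scheme.{u} :=
  affineLocally (RingHom.Locally fun {R S} [CommRing R] [CommRing S] (f : R →+* S) => f.EssFiniteType)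

theorem hpa : StableUnderCompositionWithLocalizationAway.{u}
    (fun {R S} [CommRing R] [CommRing S] (f : R →+* S) => f.EssFiniteType) :=
  EssFiniteType.stableUnderComposition.stableUnderCompositionWithLocalizationAway
    (HoldsForLocalization.holdsForLocalizationAway EssFiniteType.holdsForLocalization)

theorem hpl : LocalizationAwayPreserves.{u}
    (fun {R S} [CommRing R] [CommRing S] (f : R →+* S) => f.EssFiniteType) :=
  (EssFiniteType.isStableUnderBaseChange.localizationPreserves).away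

instance : HasRingHomProperty LE.{u}
    (RingHom.Locally fun {R S} [CommRing R] [CommRing S] (f : R →+* S) => f.EssFiniteType) :=
  ⟨locally_propertyIsLocal hpl hpa, rfl⟩

theorem le_comp {X Y Z : Scheme.{u}} (f : X ⟶ Y) (g : Y ⟶ Z) (hf : LE f) (hg : LE g) : LE (f ≫ g) := by
  have := HasRingHomProperty.stableUnderComposition (P := LE.{u})
    (locally_stableUnderComposition EssFiniteType.respectsIso
      EssFiniteType.isStableUnderBaseChange.localizationPreserves EssFiniteType.stableUnderComposition)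
  exact MorphismProperty.comp_mem _ f g hf hg

theorem le_baseChange {X Y Y' : Scheme.{u}} (f : X ⟶ Y) (g : Y' ⟶ Y) (hf : LE f) :
    LE (Limits.pullback.snd f g) := by
  have := HasRingHomProperty.isStableUnderBaseChange (P := LE.{u})
    (locally_isStableUnderBaseChange EssFiniteType.respectsIso EssFiniteType.isStableUnderBaseChange)
  exact MorphismProperty.pullback_snd f g hf

/-- every affine open has preimage covered by good affine opens -/
def Cover {X Y : Scheme.{u}} (f : X ⟶ Y) (U : Y.affineOpens) : Prop :=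
  ∃ T : Set X.affineOpens, (⋃ V ∈ T, ((V : X.Opens) : Set ↥X)) = ((f ⁻¹ᵁ (U : Y.Opens)) : Set ↥X) ∧
    ∀ V ∈ T, ∃ e : (V : X.Opens) ≤ f ⁻¹ᵁ (U : Y.Opens), (f.appLE (U : Y.Opens) (V : X.Opens) e).hom.EssFiniteType

theorem exists_piece {X Y : Scheme.{u}} {f : X ⟶ Y} (hf : LE f) (U : Y.affineOpens) (x : X)
    (hx : x ∈ f ⁻¹ᵁ (U : Y.Opens)) :
    ∃ V : X.affineOpens, x ∈ (V : X.Opens) ∧ ∃ e : (V : X.Opens) ≤ f ⁻¹ᵁ (U : Y.Opens),
      (f.appLE (U : Y.Opens) (V : X.Opens) e).hom.EssFiniteType := by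
  obtain ⟨V, hV, hxV, e⟩ := TopologicalSpace.Opens.isBasis_iff_nbhd.mp X.isBasis_affineOpens hx
  have h := HasRingHomProperty.appLE (P := LE.{u}) f hf U ⟨V, hV⟩ e
  rw [locally_iff_isLocalization EssFiniteType.respectsIso] at h
  obtain ⟨s, hs, hfs⟩ := h
  rw [← hV.iSup_basicOpen_eq_self_iff] at hs
  have hxs : x ∈ ⨆ i : s, X.basicOpen i.1 := hs.symm ▸ hxV
  obtain ⟨⟨r, hr⟩, hxr⟩ := TopologicalSpace.Opens.mem_iSup.1 hxs
  refine ⟨⟨X.basicOpen r, hV.basicOpen r⟩, hxr, (X.basicOpen_le r).trans e, ?_⟩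
  rw [← f.appLE_map e (homOfLE (X.basicOpen_le r)).op]
  have : IsLocalization.Away r Γ(X, X.basicOpen r) := hV.isLocalization_basicOpen r
  exact hfs r hr _

theorem cover_of_le {X Y : Scheme.{u}} {f : X ⟶ Y} (hf : LE f) (U : Y.affineOpens) : Cover f U := by
  refine ⟨{V | ∃ e : (V : X.Opens) ≤ f ⁻¹ᵁ (U : Y.Opens),
    (f.appLE (U : Y.Opens) (V : X.Opens) e).hom.EssFiniteType}, Set.ext fun x => ?_, fun V h => h⟩
  simp only [Set.mem_iUnion, Set.mem_setOf_eq]
  refine ⟨fun ⟨V, ⟨e, _⟩, hx⟩ => e hx, fun hx => ?_⟩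
  obtain ⟨V, hxV, hV⟩ := exists_piece hf U x hx
  exact ⟨V, hV, hxV⟩

theorem le_of_cover {X Y : Scheme.{u}} {f : X ⟶ Y} (S : Set Y.affineOpens)
    (hS : (⋃ U ∈ S, ((U : Y.Opens) : Set ↥Y)) = Set.univ) (h : ∀ U ∈ S, Cover f U) : LE f := by
  rw [HasRingHomProperty.iff_exists_appLE_locally (P := LE.{u}) hpa.left EssFiniteType.respectsIso]
  intro x
  obtain ⟨U, hU, hfx⟩ := Set.mem_iUnion₂.1 (hS.symm ▸ Set.mem_univ (f x) : f x ∈ ⋃ U ∈ S, ((U : Y.Opens) : Set ↥Y))
  obtain ⟨T, hT, hT'⟩ := h U hU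
  obtain ⟨V, hV, hxV⟩ := Set.mem_iUnion₂.1 (hT.symm ▸ hfx : x ∈ ⋃ V ∈ T, ((V : X.Opens) : Set ↥X))
  obtain ⟨e, he⟩ := hT' V hV
  exact ⟨U, V, hxV, e, he⟩

theorem le_iff_forall_cover {X Y : Scheme.{u}} (f : X ⟶ Y) : LE f ↔ ∀ U, Cover f U :=
  ⟨cover_of_le, fun h => le_of_cover Set.univ (Set.eq_univ_of_forall fun y => by
    obtain ⟨U, hU, hy, -⟩ := TopologicalSpace.Opens.isBasis_iff_nbhd.mp Y.isBasis_affineOpens
      (TopologicalSpace.Opens.mem_top y)
    exact Set.mem_iUnion₂.2 ⟨⟨U, hU⟩, trivial, hy⟩) fun U _ => h U⟩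

theorem finite_cover_iff {X Y : Scheme.{u}} (f : X ⟶ Y) :
    (LE f ∧ QuasiCompact f) ↔ ∀ U : Y.affineOpens, ∃ T : Set X.affineOpens, T.Finite ∧
      (⋃ V ∈ T, ((V : X.Opens) : Set ↥X)) = ((f ⁻¹ᵁ (U : Y.Opens)) : Set ↥X) ∧
        ∀ V ∈ T, ∃ e : (V : X.Opens) ≤ f ⁻¹ᵁ (U : Y.Opens),
          (f.appLE (U : Y.Opens) (V : X.Opens) e).hom.EssFiniteType := by
  constructor
  · rintro ⟨hf, hq⟩ U
    obtain ⟨T, hT, hT'⟩ := cover_of_le hf U
    obtain ⟨T', hsub, hfin, hcov⟩ := (QuasiCompact.isCompact_preimage _ U.1.2 U.2.isCompact).elim_finite_subcover_image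
      (b := T) (c := fun V : X.affineOpens => ((V : X.Opens) : Set ↥X)) (fun V _ => V.1.2) hT.ge
    refine ⟨T', hfin, subset_antisymm ?_ hcov, fun V hV => hT' V (hsub hV)⟩
    exact (Set.biUnion_subset_biUnion_left hsub).trans hT.le
  · intro h
    refine ⟨(le_iff_forall_cover f).2 fun U => let ⟨T, _, a, b⟩ := h U; ⟨T, a, b⟩, ?_⟩
    rw [quasiCompact_iff_forall_isAffineOpen]
    intro U hU
    obtain ⟨T, hfin, hT, -⟩ := h ⟨U, hU⟩
    show IsCompact ((f ⁻¹ᵁ U : X.Opens) : Set ↥X)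
    rw [← hT]
    exact hfin.isCompact_biUnion fun V _ => V.2.isCompact

end Groth.Agent.CAlg9.EFT
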